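import Cfsg.Agent.Lib.CentralExt.Basic

/-!
# The Schur multiplier by the Hopf formula, and covering groups

* `Pres Q = F/[R, F]` for the free presentation on the elements of `Q`, `proj`, `mult Q = ker proj ⊓ derived`.
* `exists_lift`: `Pres Q` maps to every central extension of `Q`.
* `ker_eq_map`, `lift_surjective`, `multMap_surjective`: kernels of stem extensions are images of `mult Q`.
* `exists_cover`: for a stem extension there is a covering group `Pres Q ⧸ N` mapping onto it.
* `hasSchurMultiplier_mult`, `nonempty_equiv`: `HasSchurMultiplier Q A` iff `A ≅ mult Q`.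
-/

set_option autoImplicit false
open scoped commutatorElement

namespace Cfsg.Agent.SchurCover

universe u

variable (Q : Type u) [Group Q]

/-- The relations of the free presentation on all elements. -/
def rel : Subgroup (FreeGroup Q) := (FreeGroup.lift (id : Q → Q)).ker

instance relNormal : (rel Q).Normal := MonoidHom.normal_ker _

/-- The subgroup `[R, F]`. -/
def relComm : Subgroup (FreeGroup Q) := ⁅rel Q, (⊤ : Subgroup (FreeGroup Q))⁆

instance relCommNormal : (relComm Q).Normal := Subgroup.commutator_normal _ _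

/-- The group `F/[R, F]`. -/
abbrev Pres : Type u := FreeGroup Q ⧸ relComm Q

/-- The projection of `F/[R, F]` onto the group. -/
def proj : Pres Q →* Q :=
  QuotientGroup.lift (relComm Q) (FreeGroup.lift (id : Q → Q)) (Subgroup.commutator_le_left _ _)

theorem proj_mk (f : FreeGroup Q) : proj Q (f : Pres Q) = FreeGroup.lift (id : Q → Q) f := rfl

theorem proj_surjective : Function.Surjective (proj Q) := fun q =>
  ⟨((FreeGroup.of q : FreeGroup Q) : Pres Q), by rw [proj_mk, FreeGroup.lift_apply_of]; rfl⟩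

theorem ker_le_center : (proj Q).ker ≤ Subgroup.center (Pres Q) := by
  intro x hx
  obtain ⟨r, rfl⟩ := QuotientGroup.mk_surjective x
  rw [Subgroup.mem_center_iff]
  intro y
  obtain ⟨g, rfl⟩ := QuotientGroup.mk_surjective y
  rw [eq_comm, ← QuotientGroup.mk_mul, ← QuotientGroup.mk_mul, QuotientGroup.eq]
  have h : ⁅r⁻¹, g⁻¹⁆⁻¹ ∈ relComm Q :=
    Subgroup.inv_mem _ (Subgroup.commutator_mem_commutator ((rel Q).inv_mem hx) (Subgroup.mem_top _))
  have e : (r * g)⁻¹ * (g * r) = ⁅r⁻¹, g⁻¹⁆⁻¹ := by rw [commutatorElement_def]; group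
  rw [e]
  exact h

/-- The Schur multiplier of `Q`. -/
def mult : Subgroup (Pres Q) := (proj Q).ker ⊓ commutator (Pres Q)

theorem mult_le_ker : mult Q ≤ (proj Q).ker := inf_le_left

theorem mult_le_commutator : mult Q ≤ commutator (Pres Q) := inf_le_right

theorem mult_le_center : mult Q ≤ Subgroup.center (Pres Q) := (mult_le_ker Q).trans (ker_le_center Q)

instance multCommGroup : CommGroup (mult Q) :=
  { (inferInstance : Group (mult Q)) with
    mul_comm := fun a b => Subtype.ext (Subgroup.mem_center_iff.1 (mult_le_center Q b.2) a) }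

variable {Q}

/-- Two lifts of one map into a group differ by elements of the central kernel. -/
theorem exists_lift {Γ : Type*} [Group Γ] (σ : Γ →* Q) (hs : Function.Surjective σ)
    (hc : σ.ker ≤ Subgroup.center Γ) : ∃ β : Pres Q →* Γ, σ.comp β = proj Q := by
  let φ : FreeGroup Q →* Γ := FreeGroup.lift (Function.surjInv hs)
  have hφ : σ.comp φ = FreeGroup.lift (id : Q → Q) := by
    ext q
    simp [φ, Function.surjInv_eq hs]
  have hle : relComm Q ≤ φ.ker := by
    rw [relComm, Subgroup.commutator_le]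
    intro r hr g _
    have h1 : φ r ∈ Subgroup.center Γ := hc (by
      rw [MonoidHom.mem_ker, ← MonoidHom.comp_apply, hφ]
      exact hr)
    rw [MonoidHom.mem_ker, map_commutatorElement, commutatorElement_eq_one_iff_mul_comm]
    exact (Subgroup.mem_center_iff.1 h1 (φ g)).symm
  refine ⟨QuotientGroup.lift _ φ hle, ?_⟩
  refine MonoidHom.ext fun x => ?_
  obtain ⟨f, rfl⟩ := QuotientGroup.mk_surjective x
  exact DFunLike.congr_fun hφ f

theorem commutator_le_map {Γ : Type*} [Group Γ] {σ : Γ →* Q} (hc : σ.ker ≤ Subgroup.center Γ)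
    {β : Pres Q →* Γ} (hβ : σ.comp β = proj Q) : commutator Γ ≤ (commutator (Pres Q)).map β := by
  have h : ∀ g : Γ, ∃ k ∈ β.range, k⁻¹ * g ∈ Subgroup.center Γ := by
    intro g
    obtain ⟨e, he⟩ := proj_surjective Q (σ g)
    refine ⟨β e, ⟨e, rfl⟩, hc ?_⟩
    rw [MonoidHom.mem_ker, map_mul, map_inv, ← MonoidHom.comp_apply, hβ, he, inv_mul_cancel]
  refine (Cfsg.Agent.CentralExt.commutator_le_of_mul_center h).trans ?_
  rw [commutator_def (G := Pres Q), Subgroup.map_commutator, ← MonoidHom.range_eq_map]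

theorem map_mult_le {Γ : Type*} [Group Γ] {σ : Γ →* Q} {β : Pres Q →* Γ}
    (hβ : σ.comp β = proj Q) : (mult Q).map β ≤ σ.ker := by
  rintro _ ⟨x, hx, rfl⟩
  rw [MonoidHom.mem_ker, ← MonoidHom.comp_apply, hβ]
  exact MonoidHom.mem_ker.1 (mult_le_ker Q hx)

theorem ker_eq_map {Γ : Type*} [Group Γ] {σ : Γ →* Q} (hσ : Cfsg.IsStemExtension σ)
    {β : Pres Q →* Γ} (hβ : σ.comp β = proj Q) : σ.ker = (mult Q).map β := by
  refine le_antisymm ?_ (map_mult_le hβ)
  intro x hx
  obtain ⟨e, he, rfl⟩ := commutator_le_map hσ.2.1 hβ (hσ.2.2 hx)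
  refine ⟨e, ⟨?_, he⟩, rfl⟩
  rw [MonoidHom.mem_ker] at hx
  show proj Q e = 1
  rw [← hβ]
  exact hx

theorem lift_surjective {Γ : Type*} [Group Γ] {σ : Γ →* Q} (hσ : Cfsg.IsStemExtension σ)
    {β : Pres Q →* Γ} (hβ : σ.comp β = proj Q) : Function.Surjective β := by
  intro g
  obtain ⟨e, he⟩ := proj_surjective Q (σ g)
  have h1 : (β e)⁻¹ * g ∈ σ.ker := by
    rw [MonoidHom.mem_ker, map_mul, map_inv, ← MonoidHom.comp_apply, hβ, he, inv_mul_cancel]
  rw [ker_eq_map hσ hβ] at h1
  obtain ⟨m, -, hm⟩ := h1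
  exact ⟨e * m, by rw [map_mul, hm, mul_inv_cancel_left]⟩

/-- The map of the multiplier to the kernel of an extension. -/
def multMap {Γ : Type*} [Group Γ] {σ : Γ →* Q} {β : Pres Q →* Γ} (hβ : σ.comp β = proj Q) :
    mult Q →* σ.ker :=
  (β.comp (mult Q).subtype).codRestrict σ.ker fun x => map_mult_le hβ ⟨x, x.2, rfl⟩

theorem multMap_surjective {Γ : Type*} [Group Γ] {σ : Γ →* Q} (hσ : Cfsg.IsStemExtension σ)
    {β : Pres Q →* Γ} (hβ : σ.comp β = proj Q) : Function.Surjective (multMap hβ) := by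
  rintro ⟨x, hx⟩
  obtain ⟨m, hm, rfl⟩ := (ker_eq_map hσ hβ).le hx
  exact ⟨⟨m, hm⟩, rfl⟩

section Finite

variable [Finite Q]

instance finite_mult : Finite (mult Q) :=
  haveI := Cfsg.Agent.CentralExt.finite_commutator_of_ker_le_center (proj Q) (ker_le_center Q)
  Finite.of_injective (Subgroup.inclusion (mult_le_commutator Q)) (Subgroup.inclusion_injective _)

variable (Q) in
/-- The map to the free abelian group on `Q`. -/
noncomputable def freeAb : Pres Q →* Multiplicative (Q →₀ ℤ) :=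
  QuotientGroup.lift (relComm Q) (FreeGroup.lift fun q => Multiplicative.ofAdd (Finsupp.single q 1)) (by
    rw [relComm, Subgroup.commutator_le]
    intro r _ g _
    rw [MonoidHom.mem_ker, map_commutatorElement, commutatorElement_eq_one_iff_mul_comm]
    exact mul_comm _ _)

omit [Finite Q] in
theorem freeAb_eq_one_iff (x : Pres Q) : freeAb Q x = 1 ↔ x ∈ commutator (Pres Q) := by
  constructor
  · intro hx
    obtain ⟨f, rfl⟩ := QuotientGroup.mk_surjective x
    let ψ : (Q →₀ ℤ) →+ Additive (Abelianization (FreeGroup Q)) :=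
      Finsupp.liftAddHom fun q => zmultiplesHom _ (Additive.ofMul (Abelianization.of (FreeGroup.of q)))
    have key : (AddMonoidHom.toMultiplicativeLeft ψ).comp
        ((freeAb Q).comp (QuotientGroup.mk' (relComm Q))) = Abelianization.of := by
      ext q
      simp [freeAb, ψ, AddMonoidHom.toMultiplicativeLeft]
    have h1 : Abelianization.of f = 1 := by
      rw [← key, MonoidHom.comp_apply, MonoidHom.comp_apply]
      show (AddMonoidHom.toMultiplicativeLeft ψ) (freeAb Q (f : Pres Q)) = 1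
      rw [hx, map_one]
    have h2 : f ∈ commutator (FreeGroup Q) := by rwa [← Abelianization.ker_of, MonoidHom.mem_ker]
    have h3 : (QuotientGroup.mk' (relComm Q)) f ∈
        (commutator (FreeGroup Q)).map (QuotientGroup.mk' (relComm Q)) := Subgroup.mem_map_of_mem _ h2
    rw [commutator_def, Subgroup.map_commutator, ← MonoidHom.range_eq_map,
      MonoidHom.range_eq_top_of_surjective _ (QuotientGroup.mk'_surjective _), ← commutator_def] at h3
    exact h3
  · intro hx
    exact Abelianization.commutator_subset_ker (freeAb Q) hx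

/-- A complement of the multiplier in the kernel, inside the kernel of a given map that is onto on it. -/
theorem exists_complement {A : Type*} [CommGroup A] (b : (proj Q).ker →* A)
    (hb : ∀ a : A, ∃ (m : Pres Q) (hm : m ∈ mult Q), b ⟨m, mult_le_ker Q hm⟩ = a) :
    ∃ N : Subgroup (Pres Q), N ≤ (proj Q).ker ∧ N ⊓ mult Q = ⊥ ∧ N ⊔ mult Q = (proj Q).ker ∧
      ∀ (x : Pres Q) (hx : x ∈ (proj Q).ker), x ∈ N → b ⟨x, hx⟩ = 1 := by
  letI : CommGroup (proj Q).ker :=
    { (inferInstance : Group (proj Q).ker) with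
      mul_comm := fun a b => Subtype.ext (Subgroup.mem_center_iff.1 (ker_le_center Q b.2) a) }
  let κ : Additive (proj Q).ker →ₗ[ℤ] (Q →₀ ℤ) :=
    (MonoidHom.toAdditiveLeft ((freeAb Q).comp (proj Q).ker.subtype)).toIntLinearMap
  let bl : Additive (proj Q).ker →ₗ[ℤ] Additive A := (MonoidHom.toAdditive b).toIntLinearMap
  let i : Additive (mult Q) →ₗ[ℤ] Additive (proj Q).ker :=
    (MonoidHom.toAdditive (Subgroup.inclusion (mult_le_ker Q))).toIntLinearMap
  have hκ : ∀ k : (proj Q).ker, κ (Additive.ofMul k) = 0 ↔ (k : Pres Q) ∈ mult Q := by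
    intro k
    show Multiplicative.toAdd (freeAb Q (k : Pres Q)) = 0 ↔ _
    rw [toAdd_eq_zero, freeAb_eq_one_iff]
    exact ⟨fun h => ⟨k.2, h⟩, fun h => h.2⟩
  haveI : Module.Free ℤ (LinearMap.range κ) := Module.free_of_finite_type_torsion_free'
  obtain ⟨s, hs⟩ := Module.projective_lifting_property κ.rangeRestrict LinearMap.id
    (LinearMap.surjective_rangeRestrict κ)
  have hbi : Function.Surjective (bl.comp i) := fun a => by
    obtain ⟨m, hm, hma⟩ := hb a.toMul
    exact ⟨Additive.ofMul ⟨m, hm⟩, hma⟩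
  obtain ⟨t, ht⟩ := Module.projective_lifting_property (bl.comp i) (bl.comp s) hbi
  let s' : LinearMap.range κ →ₗ[ℤ] Additive (proj Q).ker := s - i.comp t
  have hκs : ∀ l, κ (s' l) = (l : Q →₀ ℤ) := by
    intro l
    have h1 : κ (s l) = (l : Q →₀ ℤ) := congrArg Subtype.val (DFunLike.congr_fun hs l)
    have h2 : κ (i (t l)) = 0 := (hκ _).2 (Additive.toMul (t l)).2
    simp only [s', LinearMap.sub_apply, LinearMap.comp_apply, map_sub, h1, h2, sub_zero]
  let N₀ : Subgroup (proj Q).ker := AddSubgroup.toSubgroup' (LinearMap.range s').toAddSubgroup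
  refine ⟨N₀.map (proj Q).ker.subtype, Subgroup.map_subtype_le N₀, ?_, ?_, ?_⟩
  · rw [eq_bot_iff]
    rintro x ⟨⟨k, hk, rfl⟩, hm⟩
    obtain ⟨l, hl'⟩ := (hk : Additive.ofMul k ∈ LinearMap.range s')
    have hl : s' l = Additive.ofMul k := hl'
    have h0 : κ (Additive.ofMul k) = 0 := (hκ k).2 hm
    rw [← hl, hκs] at h0
    have hl0 : l = 0 := Subtype.ext h0
    rw [hl0, map_zero] at hl
    rw [Subgroup.mem_bot]
    have : k = 1 := Additive.ofMul.injective hl.symm
    simp [this]
  · refine le_antisymm (sup_le (Subgroup.map_subtype_le N₀) (mult_le_ker Q)) fun x hx => ?_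
    let l : LinearMap.range κ := ⟨κ (Additive.ofMul ⟨x, hx⟩), LinearMap.mem_range_self _ _⟩
    have h1 : κ (Additive.ofMul ((Additive.toMul (s' l))⁻¹ * ⟨x, hx⟩)) = 0 := by
      show κ (-(s' l) + Additive.ofMul (⟨x, hx⟩ : (proj Q).ker)) = 0
      rw [map_add, map_neg, hκs]
      exact neg_add_cancel _
    have h2 := Subgroup.mul_mem_sup (S := N₀.map (proj Q).ker.subtype) (T := mult Q)
      (Subgroup.mem_map_of_mem (proj Q).ker.subtype
        (show Additive.toMul (s' l) ∈ N₀ from LinearMap.mem_range_self s' l)) ((hκ _).1 h1)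
    simpa using h2
  · rintro x hx ⟨k, hk, rfl⟩
    obtain ⟨l, hl'⟩ := (hk : Additive.ofMul k ∈ LinearMap.range s')
    have hl : s' l = Additive.ofMul k := hl'
    have h1 : bl (s' l) = 0 := by
      have h2 : bl (i (t l)) = bl (s l) := DFunLike.congr_fun ht l
      simp only [s', LinearMap.sub_apply, LinearMap.comp_apply, map_sub, h2, sub_self]
    rw [hl] at h1
    exact h1

/-- A covering group adapted to a stem extension. -/
theorem exists_cover {Δ : Type*} [Group Δ] (τ : Δ →* Q) (hτ : Cfsg.IsStemExtension τ) :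
    ∃ (N : Subgroup (Pres Q)) (_ : N.Normal) (hN : N ≤ (proj Q).ker) (_ : Finite (Pres Q ⧸ N)),
      N ⊓ mult Q = ⊥ ∧ N ⊔ mult Q = (proj Q).ker ∧
      Cfsg.IsStemExtension (QuotientGroup.lift N (proj Q) hN) ∧
      Nonempty (mult Q ≃* (QuotientGroup.lift N (proj Q) hN).ker) ∧
      ∃ β : Pres Q ⧸ N →* Δ, Function.Surjective β ∧ τ.comp β = QuotientGroup.lift N (proj Q) hN := by
  obtain ⟨β, hβ⟩ := exists_lift τ hτ.1 hτ.2.1
  letI : CommGroup τ.ker :=
    { (inferInstance : Group τ.ker) with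
      mul_comm := fun a b => Subtype.ext (Subgroup.mem_center_iff.1 (hτ.2.1 b.2) a) }
  let b : (proj Q).ker →* τ.ker := (β.comp (proj Q).ker.subtype).codRestrict τ.ker fun x => by
    rw [MonoidHom.mem_ker]
    show (τ.comp β) x.1 = 1
    rw [hβ]
    exact x.2
  obtain ⟨N, hNle, hinf, hsup, hb⟩ := exists_complement b (fun a => by
    obtain ⟨⟨m, hm⟩, hma⟩ := multMap_surjective hτ hβ a
    exact ⟨m, hm, hma⟩)
  haveI hNn : N.Normal := ⟨fun x hx g => by
    rw [Subgroup.mem_center_iff.1 (ker_le_center Q (hNle hx)) g, mul_inv_cancel_right]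
    exact hx⟩
  set σ := QuotientGroup.lift N (proj Q) hNle with hσdef
  have hker : σ.ker = (mult Q).map (QuotientGroup.mk' N) := by
    rw [hσdef, QuotientGroup.ker_lift, ← hsup, Subgroup.map_sup, QuotientGroup.map_mk'_self, bot_sup_eq]
  let e : mult Q →* σ.ker := ((QuotientGroup.mk' N).comp (mult Q).subtype).codRestrict σ.ker fun x =>
    hker ▸ Subgroup.mem_map_of_mem _ x.2
  have he : Function.Bijective e := by
    constructor
    · rw [injective_iff_map_eq_one]
      intro x hx
      have h1 : (x : Pres Q) ∈ N := (QuotientGroup.eq_one_iff _).1 (congrArg Subtype.val hx)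
      have h2 : (x : Pres Q) ∈ N ⊓ mult Q := ⟨h1, x.2⟩
      rw [hinf] at h2
      exact Subtype.ext (Subgroup.mem_bot.1 h2)
    · rintro ⟨y, hy⟩
      obtain ⟨m, hm, rfl⟩ := hker.le hy
      exact ⟨⟨m, hm⟩, rfl⟩
  have hfin : Finite (Pres Q ⧸ N) := by
    haveI : Finite σ.ker := Finite.of_surjective e he.2
    haveI : Finite ((Pres Q ⧸ N) ⧸ σ.ker) := Finite.of_injective _ (QuotientGroup.kerLift_injective σ)
    exact Finite.of_equiv _ (Subgroup.groupEquivQuotientProdSubgroup (s := σ.ker)).symm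
  have hsurj : Function.Surjective σ := fun q => by
    obtain ⟨x, hx⟩ := proj_surjective Q q
    exact ⟨(x : Pres Q ⧸ N), hx⟩
  have hstem : Cfsg.IsStemExtension σ := by
    refine ⟨hsurj, ?_, ?_⟩
    · rw [hker]
      rintro _ ⟨m, hm, rfl⟩
      rw [Subgroup.mem_center_iff]
      intro g
      obtain ⟨g, rfl⟩ := QuotientGroup.mk_surjective g
      exact congrArg (QuotientGroup.mk' N) (Subgroup.mem_center_iff.1 (mult_le_center Q hm) g)
    · rw [hker, commutator_def, ← MonoidHom.range_eq_top_of_surjective _ (QuotientGroup.mk'_surjective N),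
        MonoidHom.range_eq_map, ← Subgroup.map_commutator]
      exact Subgroup.map_mono (mult_le_commutator Q)
  have hNker : N ≤ β.ker := fun x hx =>
    congrArg Subtype.val (hb x (hNle hx) hx)
  refine ⟨N, hNn, hNle, hfin, hinf, hsup, hstem, ⟨MulEquiv.ofBijective e he⟩,
    QuotientGroup.lift N β hNker, fun d => ?_, ?_⟩
  · obtain ⟨x, hx⟩ := lift_surjective hτ hβ d
    exact ⟨(x : Pres Q ⧸ N), hx⟩
  · refine MonoidHom.ext fun x => ?_
    obtain ⟨f, rfl⟩ := QuotientGroup.mk_surjective x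
    exact DFunLike.congr_fun hβ f

theorem isStem_id (G : Type*) [Group G] : Cfsg.IsStemExtension (MonoidHom.id G) := by
  refine ⟨Function.surjective_id, ?_, ?_⟩ <;>
  · intro x hx
    have : x = 1 := hx
    rw [this]
    exact Subgroup.one_mem _

variable (Q) in
theorem hasSchurMultiplier_mult : Cfsg.HasSchurMultiplier Q (mult Q) := by
  obtain ⟨N, hNn, hN, hfin, -, -, hstem, ⟨e⟩, -⟩ := exists_cover (MonoidHom.id Q) (isStem_id Q)
  refine ⟨⟨Pres Q ⧸ N, inferInstance, hfin, _, hstem, ⟨e.symm⟩⟩, fun Γ _ _ σ hσ => ?_⟩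
  obtain ⟨β, hβ⟩ := exists_lift σ hσ.1 hσ.2.1
  exact ⟨multMap hβ, multMap_surjective hσ hβ⟩

theorem nonempty_equiv {A : Type*} [CommGroup A] (hA : Cfsg.HasSchurMultiplier Q A) :
    Nonempty (mult Q ≃* A) := by
  obtain ⟨⟨Γ, _, _, σ, hσ, ⟨e⟩⟩, hA2⟩ := hA
  haveI : Finite A := Finite.of_equiv _ e.toEquiv
  obtain ⟨⟨Γ₀, _, _, σ₀, hσ₀, ⟨e₀⟩⟩, -⟩ := hasSchurMultiplier_mult Q
  obtain ⟨π, hπ⟩ := hA2 Γ₀ σ₀ hσ₀
  obtain ⟨β, hβ⟩ := exists_lift σ hσ.1 hσ.2.1
  let f : mult Q →* A := e.toMonoidHom.comp (multMap hβ)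
  have hf : Function.Surjective f := e.surjective.comp (multMap_surjective hσ hβ)
  have h1 := Nat.card_le_card_of_surjective f hf
  have h2 := Nat.card_le_card_of_surjective _ (e₀.surjective.comp hπ)
  exact ⟨MulEquiv.ofBijective f ((Nat.bijective_iff_surjective_and_card f).2 ⟨hf, le_antisymm h2 h1⟩)⟩

end Finite

end Cfsg.Agent.SchurCover
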