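import Cfsg.Agent.Lib.SchurCover.Basic
import Mathlib.RingTheory.TensorProduct.Finite

/-!
# The multiplier of a direct product

* `hasSchurMultiplier_prod`: the multiplier of `Q₁ × Q₂` is the product of the two multipliers and the tensor
  product of the commutator quotients.
-/

set_option autoImplicit false
open scoped commutatorElement TensorProduct

namespace Cfsg.Agent.SchurCover

universe u v w

/-- The tensor product of the commutator quotients, written multiplicatively. -/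
abbrev AbTensor (Q₁ : Type u) (Q₂ : Type v) [Group Q₁] [Group Q₂] : Type (max u v) :=
  Multiplicative (TensorProduct ℤ (Additive (Abelianization Q₁)) (Additive (Abelianization Q₂)))

theorem finite_abTensor (Q₁ : Type u) (Q₂ : Type v) [Group Q₁] [Group Q₂] [Finite Q₁] [Finite Q₂] :
    Finite (AbTensor Q₁ Q₂) := by
  have : Finite (Abelianization Q₁) := Finite.of_surjective _ (QuotientGroup.mk'_surjective (commutator Q₁))
  have : Finite (Abelianization Q₂) := Finite.of_surjective _ (QuotientGroup.mk'_surjective (commutator Q₂))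
  have : Finite (Additive (Abelianization Q₁)) := Finite.of_equiv _ Additive.ofMul
  have : Finite (Additive (Abelianization Q₂)) := Finite.of_equiv _ Additive.ofMul
  have : Module.Finite ℤ (Additive (Abelianization Q₁)) := Module.Finite.of_finite
  have : Module.Finite ℤ (Additive (Abelianization Q₂)) := Module.Finite.of_finite
  have : Finite (TensorProduct ℤ (Additive (Abelianization Q₁)) (Additive (Abelianization Q₂))) := by
    have hf : Module.Finite ℤ (TensorProduct ℤ (Additive (Abelianization Q₁)) (Additive (Abelianization Q₂))) :=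
      Module.Finite.tensorProduct ℤ (Additive (Abelianization Q₁)) (Additive (Abelianization Q₂))
    refine Module.finite_of_fg_torsion _ fun x => ?_
    refine ⟨⟨(Nat.card (Additive (Abelianization Q₁)) : ℤ),
      mem_nonZeroDivisors_of_ne_zero (Int.natCast_ne_zero.2 Nat.card_pos.ne')⟩, ?_⟩
    show (Nat.card (Additive (Abelianization Q₁)) : ℤ) • x = 0
    induction x using TensorProduct.induction_on with
    | zero => rw [smul_zero]
    | tmul a b =>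
      rw [TensorProduct.smul_tmul', natCast_zsmul, card_nsmul_eq_zero', TensorProduct.zero_tmul]
    | add a b ha hb => rw [smul_add, ha, hb, add_zero]
  exact Finite.of_equiv _ Multiplicative.ofAdd

/-- The element `q₁ ⊗ q₂`. -/
noncomputable def tensorOf {Q₁ : Type u} {Q₂ : Type v} [Group Q₁] [Group Q₂] (x : Q₁) (y : Q₂) :
    AbTensor Q₁ Q₂ :=
  Multiplicative.ofAdd (Additive.ofMul (Abelianization.of x) ⊗ₜ[ℤ] Additive.ofMul (Abelianization.of y))

section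

variable {Q₁ : Type u} {Q₂ : Type v} [Group Q₁] [Group Q₂]

theorem tensorOf_mul_left (x x' : Q₁) (y : Q₂) :
    tensorOf (x * x') y = tensorOf x y * tensorOf x' y := by
  simp [tensorOf, TensorProduct.add_tmul]

theorem tensorOf_mul_right (x : Q₁) (y y' : Q₂) :
    tensorOf x (y * y') = tensorOf x y * tensorOf x y' := by
  simp [tensorOf, TensorProduct.tmul_add]

theorem tensorOf_one_left (y : Q₂) : tensorOf (1 : Q₁) y = 1 := by simp [tensorOf]

theorem tensorOf_one_right (x : Q₁) : tensorOf x (1 : Q₂) = 1 := by simp [tensorOf]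

theorem tensorOf_inv_left (x : Q₁) (y : Q₂) : tensorOf x⁻¹ y = (tensorOf x y)⁻¹ :=
  (inv_eq_of_mul_eq_one_left (by rw [← tensorOf_mul_left, inv_mul_cancel, tensorOf_one_left])).symm

variable {Γ₁ : Type u} {Γ₂ : Type v} [Group Γ₁] [Group Γ₂]

/-- The glued product of two extensions by the tensor cocycle. -/
structure Glue (σ₁ : Γ₁ →* Q₁) (σ₂ : Γ₂ →* Q₂) where
  /-- First coordinate. -/
  a : Γ₁
  /-- Second coordinate. -/
  b : Γ₂
  /-- Tensor coordinate. -/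
  t : AbTensor Q₁ Q₂

namespace Glue

variable {σ₁ : Γ₁ →* Q₁} {σ₂ : Γ₂ →* Q₂}

theorem ext' {x y : Glue σ₁ σ₂} (h1 : x.a = y.a) (h2 : x.b = y.b) (h3 : x.t = y.t) : x = y := by
  cases x; cases y; simp_all

noncomputable instance instMulGlue : Mul (Glue σ₁ σ₂) :=
  ⟨fun x y => ⟨x.a * y.a, x.b * y.b, x.t * y.t * tensorOf (σ₁ x.a) (σ₂ y.b)⟩⟩

noncomputable instance instOneGlue : One (Glue σ₁ σ₂) := ⟨⟨1, 1, 1⟩⟩

noncomputable instance instInvGlue : Inv (Glue σ₁ σ₂) :=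
  ⟨fun x => ⟨x.a⁻¹, x.b⁻¹, x.t⁻¹ * tensorOf (σ₁ x.a) (σ₂ x.b)⟩⟩

theorem mul_a (x y : Glue σ₁ σ₂) : (x * y).a = x.a * y.a := rfl
theorem mul_b (x y : Glue σ₁ σ₂) : (x * y).b = x.b * y.b := rfl
theorem mul_t (x y : Glue σ₁ σ₂) : (x * y).t = x.t * y.t * tensorOf (σ₁ x.a) (σ₂ y.b) := rfl
theorem inv_a (x : Glue σ₁ σ₂) : x⁻¹.a = x.a⁻¹ := rfl
theorem inv_b (x : Glue σ₁ σ₂) : x⁻¹.b = x.b⁻¹ := rfl
theorem inv_t (x : Glue σ₁ σ₂) : x⁻¹.t = x.t⁻¹ * tensorOf (σ₁ x.a) (σ₂ x.b) := rfl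
theorem one_a : (1 : Glue σ₁ σ₂).a = 1 := rfl
theorem one_b : (1 : Glue σ₁ σ₂).b = 1 := rfl
theorem one_t : (1 : Glue σ₁ σ₂).t = 1 := rfl

noncomputable instance instGroupGlue : Group (Glue σ₁ σ₂) where
  mul_assoc x y z := by
    refine ext' (mul_assoc _ _ _) (mul_assoc _ _ _) ?_
    simp only [mul_t, mul_a, mul_b, map_mul, tensorOf_mul_left, tensorOf_mul_right]
    ac_rfl
  one_mul x := ext' (one_mul _) (one_mul _) (by
    simp [mul_t, one_t, one_a, tensorOf_one_left])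
  mul_one x := ext' (mul_one _) (mul_one _) (by
    simp [mul_t, one_t, one_b, tensorOf_one_right])
  inv_mul_cancel x := ext' (inv_mul_cancel _) (inv_mul_cancel _) (by
    simp only [mul_t, inv_t, inv_a, one_t, map_inv, tensorOf_inv_left]
    rw [mul_right_comm x.t⁻¹, inv_mul_cancel, one_mul, mul_inv_cancel])

/-- The projection to the product. -/
noncomputable def proj' : Glue σ₁ σ₂ →* Q₁ × Q₂ where
  toFun x := (σ₁ x.a, σ₂ x.b)
  map_one' := by simp [one_a, one_b]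
  map_mul' x y := by simp [mul_a, mul_b]

noncomputable def inl : Γ₁ →* Glue σ₁ σ₂ where
  toFun a := ⟨a, 1, 1⟩
  map_one' := rfl
  map_mul' a a' := ext' rfl (one_mul 1).symm (by simp [mul_t, tensorOf_one_right])

noncomputable def inr : Γ₂ →* Glue σ₁ σ₂ where
  toFun b := ⟨1, b, 1⟩
  map_one' := rfl
  map_mul' b b' := ext' (one_mul 1).symm rfl (by simp [mul_t, tensorOf_one_left])

noncomputable def inT : AbTensor Q₁ Q₂ →* Glue σ₁ σ₂ where
  toFun t := ⟨1, 1, t⟩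
  map_one' := rfl
  map_mul' t t' := ext' (one_mul 1).symm (one_mul 1).symm (by simp [mul_t, tensorOf_one_left])

theorem eq_mul (x : Glue σ₁ σ₂) (ha : σ₁ x.a = 1) : x = inl x.a * inr x.b * inT x.t :=
  ext' (by simp [mul_a, inl, inr, inT]) (by simp [mul_b, inl, inr, inT])
    (by simp [mul_t, mul_a, inl, inr, inT, ha, tensorOf_one_left, tensorOf_one_right])

theorem isStem (hσ₁ : Cfsg.IsStemExtension σ₁) (hσ₂ : Cfsg.IsStemExtension σ₂) :
    Cfsg.IsStemExtension (proj' (σ₁ := σ₁) (σ₂ := σ₂)) := by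
  refine ⟨fun q => ?_, ?_, ?_⟩
  · obtain ⟨a, ha⟩ := hσ₁.1 q.1
    obtain ⟨b, hb⟩ := hσ₂.1 q.2
    exact ⟨⟨a, b, 1⟩, Prod.ext ha hb⟩
  · intro x hx
    have ha : σ₁ x.a = 1 := congrArg Prod.fst hx
    have hb : σ₂ x.b = 1 := congrArg Prod.snd hx
    rw [Subgroup.mem_center_iff]
    intro g
    refine ext' (Subgroup.mem_center_iff.1 (hσ₁.2.1 ha) g.a) (Subgroup.mem_center_iff.1 (hσ₂.2.1 hb) g.b) ?_
    simp [mul_t, ha, hb, tensorOf_one_left, tensorOf_one_right, mul_comm]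
  · intro x hx
    have ha : σ₁ x.a = 1 := congrArg Prod.fst hx
    have hb : σ₂ x.b = 1 := congrArg Prod.snd hx
    rw [eq_mul x ha]
    have hmap : ∀ {G : Type (max u v)} [Group G] {K : Type u} [Group K] (f : K →* G),
        (commutator K).map f ≤ commutator G := fun f => by
      rw [commutator_def, Subgroup.map_commutator]
      exact Subgroup.commutator_mono le_top le_top
    refine Subgroup.mul_mem _ (Subgroup.mul_mem _ (hmap inl (Subgroup.mem_map_of_mem _ (hσ₁.2.2 ha))) ?_) ?_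
    · have h1 : inr (σ₁ := σ₁) x.b ∈ (commutator Γ₂).map (inr (σ₁ := σ₁) (σ₂ := σ₂)) :=
        Subgroup.mem_map_of_mem _ (hσ₂.2.2 hb)
      rw [commutator_def, Subgroup.map_commutator] at h1
      exact Subgroup.commutator_mono le_top le_top h1
    · have hgen : ∀ z : TensorProduct ℤ (Additive (Abelianization Q₁)) (Additive (Abelianization Q₂)),
          inT (σ₁ := σ₁) (σ₂ := σ₂) (Multiplicative.ofAdd z) ∈ commutator (Glue σ₁ σ₂) := by
        intro z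
        induction z using TensorProduct.induction_on with
        | zero => rw [ofAdd_zero, map_one]; exact Subgroup.one_mem _
        | tmul p q =>
          obtain ⟨p', hp'⟩ := QuotientGroup.mk_surjective p.toMul
          obtain ⟨q', hq'⟩ := QuotientGroup.mk_surjective q.toMul
          obtain ⟨a, ha'⟩ := hσ₁.1 p'
          obtain ⟨b, hb'⟩ := hσ₂.1 q'
          have h1 : inT (σ₁ := σ₁) (σ₂ := σ₂) (tensorOf p' q') = inl a * inr b * (inr b * inl a)⁻¹ := by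
            rw [eq_mul_inv_iff_mul_eq]
            refine ext' ?_ ?_ ?_ <;>
              simp [mul_a, mul_b, mul_t, inl, inr, inT, ha', hb', tensorOf_one_left, tensorOf_one_right]
          have h2 : tensorOf p' q' = Multiplicative.ofAdd (p ⊗ₜ[ℤ] q) := by
            simp only [tensorOf]
            rw [show Abelianization.of p' = p.toMul from hp', show Abelianization.of q' = q.toMul from hq']
            rfl
          rw [← h2, h1, mul_inv_rev, ← mul_assoc]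
          exact Subgroup.commutator_mem_commutator (Subgroup.mem_top _) (Subgroup.mem_top _)
        | add p q hp hq => rw [ofAdd_add, map_mul]; exact Subgroup.mul_mem _ hp hq
      exact hgen x.t.toAdd

theorem finite [Finite Γ₁] [Finite Γ₂] [Finite (AbTensor Q₁ Q₂)] : Finite (Glue σ₁ σ₂) :=
  Finite.of_injective (fun x : Glue σ₁ σ₂ => (x.a, x.b, x.t)) fun x y h => by
    simp only [Prod.mk.injEq] at h
    exact ext' h.1 h.2.1 h.2.2

end Glue

end

/-- An element of the derived group of `X` mapped to `1` comes from the multiplier. -/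
theorem exists_mult_eq {Δ : Type*} [Group Δ] {R : Type*} [Group R] (X : Subgroup Δ) (σ : X →* R)
    (β : Pres R →* X) (hcX : σ.ker ≤ Subgroup.center X) (hβ : σ.comp β = proj R) (w : Δ) (hw : w ∈ ⁅X, X⁆)
    (hwX : w ∈ X) (hw0 : σ ⟨w, hwX⟩ = 1) : ∃ m : mult R, ((β m : X) : Δ) = w := by
  have h1 : (⟨w, hwX⟩ : X) ∈ commutator X := by
    have h2 : ⁅X, X⁆ = (commutator X).map X.subtype := by
      rw [commutator_def, Subgroup.map_commutator, ← MonoidHom.range_eq_map, Subgroup.range_subtype]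
    rw [h2] at hw
    obtain ⟨w', hw', hww⟩ := hw
    have : w' = ⟨w, hwX⟩ := Subtype.ext hww
    exact this ▸ hw'
  obtain ⟨e, he, hew⟩ := commutator_le_map hcX hβ h1
  refine ⟨⟨e, ?_, he⟩, congrArg Subtype.val hew⟩
  show proj R e = 1
  rw [← hβ, MonoidHom.comp_apply, hew, hw0]

section Bound

variable {Q₁ : Type u} {Q₂ : Type v} [Group Q₁] [Group Q₂] {Δ : Type*} [Group Δ]
  {τ : Δ →* Q₁ × Q₂}

/-- The kernel of a stem extension of a product is an image of the three pieces. -/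
theorem exists_surjection (hτ : Cfsg.IsStemExtension τ) :
    ∃ (f₁ : mult Q₁ →* τ.ker) (f₂ : mult Q₂ →* τ.ker) (f₃ : AbTensor Q₁ Q₂ →* τ.ker),
      ∀ x : τ.ker, ∃ a b c, f₁ a * f₂ b * f₃ c = x := by
  obtain ⟨hs, hc, hd⟩ := hτ
  letI : CommGroup τ.ker :=
    { (inferInstance : Group τ.ker) with
      mul_comm := fun a b => Subtype.ext (Subgroup.mem_center_iff.1 (hc b.2) a) }
  set X₁ := ((MonoidHom.snd Q₁ Q₂).comp τ).ker with hX₁
  set X₂ := ((MonoidHom.fst Q₁ Q₂).comp τ).ker with hX₂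
  let σ₁ : X₁ →* Q₁ := ((MonoidHom.fst Q₁ Q₂).comp τ).comp X₁.subtype
  let σ₂ : X₂ →* Q₂ := ((MonoidHom.snd Q₁ Q₂).comp τ).comp X₂.subtype
  have hs₁ : Function.Surjective σ₁ := fun q => by
    obtain ⟨x, hx⟩ := hs (q, 1)
    exact ⟨⟨x, show (τ x).2 = 1 by rw [hx]⟩, show (τ x).1 = q by rw [hx]⟩
  have hs₂ : Function.Surjective σ₂ := fun q => by
    obtain ⟨x, hx⟩ := hs (1, q)
    exact ⟨⟨x, show (τ x).1 = 1 by rw [hx]⟩, show (τ x).2 = q by rw [hx]⟩
  have hk₁ : ∀ x : X₁, σ₁ x = 1 → (x : Δ) ∈ τ.ker := fun x hx => Prod.ext hx x.2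
  have hk₂ : ∀ x : X₂, σ₂ x = 1 → (x : Δ) ∈ τ.ker := fun x hx => Prod.ext x.2 hx
  have hc₁ : σ₁.ker ≤ Subgroup.center X₁ := fun x hx => Subgroup.mem_center_iff.2 fun g =>
    Subtype.ext (Subgroup.mem_center_iff.1 (hc (hk₁ x hx)) g)
  have hc₂ : σ₂.ker ≤ Subgroup.center X₂ := fun x hx => Subgroup.mem_center_iff.2 fun g =>
    Subtype.ext (Subgroup.mem_center_iff.1 (hc (hk₂ x hx)) g)
  obtain ⟨β₁, hβ₁⟩ := exists_lift σ₁ hs₁ hc₁
  obtain ⟨β₂, hβ₂⟩ := exists_lift σ₂ hs₂ hc₂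
  let f₁ : mult Q₁ →* τ.ker := ((X₁.subtype.comp β₁).comp (mult Q₁).subtype).codRestrict _ fun x =>
    hk₁ _ (map_mult_le hβ₁ ⟨x, x.2, rfl⟩)
  let f₂ : mult Q₂ →* τ.ker := ((X₂.subtype.comp β₂).comp (mult Q₂).subtype).codRestrict _ fun x =>
    hk₂ _ (map_mult_le hβ₂ ⟨x, x.2, rfl⟩)
  -- the commutator pairing between the two factors
  have hpair : ∀ (x : X₁) (y : X₂), (x : Δ) * y * (x : Δ)⁻¹ * (y : Δ)⁻¹ ∈ τ.ker := by
    intro x y
    have hx : (τ x).2 = 1 := x.2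
    have hy : (τ y).1 = 1 := y.2
    rw [MonoidHom.mem_ker, map_mul, map_mul, map_mul, map_inv, map_inv]
    exact Prod.ext (by simp [hy]) (by simp [hx])
  let c₀ : X₁ → X₂ → τ.ker := fun x y => ⟨_, hpair x y⟩
  have hc₀l : ∀ x x' y, c₀ (x * x') y = c₀ x y * c₀ x' y := by
    intro x x' y
    apply Subtype.ext
    show ((x : Δ) * x') * y * ((x : Δ) * x')⁻¹ * (y : Δ)⁻¹ =
      (x : Δ) * y * (x : Δ)⁻¹ * (y : Δ)⁻¹ * ((x' : Δ) * y * (x' : Δ)⁻¹ * (y : Δ)⁻¹)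
    have hz := Subgroup.mem_center_iff.1 (hc (hpair x' y)) (x : Δ)
    have hz' := Subgroup.mem_center_iff.1 (hc (hpair x y)) ((x' : Δ) * y * (x' : Δ)⁻¹ * (y : Δ)⁻¹)
    rw [← hz']
    calc ((x : Δ) * x') * y * ((x : Δ) * x')⁻¹ * (y : Δ)⁻¹
        = (x : Δ) * ((x' : Δ) * y * (x' : Δ)⁻¹ * (y : Δ)⁻¹) * y * (x : Δ)⁻¹ * (y : Δ)⁻¹ := by group
      _ = _ := by rw [hz]; group
  have hc₀r : ∀ x y y', c₀ x (y * y') = c₀ x y * c₀ x y' := by
    intro x y y'
    apply Subtype.ext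
    show (x : Δ) * ((y : Δ) * y') * (x : Δ)⁻¹ * ((y : Δ) * y')⁻¹ =
      (x : Δ) * y * (x : Δ)⁻¹ * (y : Δ)⁻¹ * ((x : Δ) * y' * (x : Δ)⁻¹ * (y' : Δ)⁻¹)
    have hz := Subgroup.mem_center_iff.1 (hc (hpair x y')) (y : Δ)
    calc (x : Δ) * ((y : Δ) * y') * (x : Δ)⁻¹ * ((y : Δ) * y')⁻¹
        = (x : Δ) * y * (x : Δ)⁻¹ * (((x : Δ) * y' * (x : Δ)⁻¹ * (y' : Δ)⁻¹) * (y : Δ)⁻¹) := by group
      _ = _ := by
        have hz2 := Subgroup.mem_center_iff.1 (hc (hpair x y')) (y : Δ)⁻¹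
        rw [← hz2]; group
  let φ : X₁ →* X₂ →* τ.ker := MonoidHom.mk' (fun x => MonoidHom.mk' (c₀ x) (hc₀r x))
    (fun a b => MonoidHom.ext (hc₀l a b))
  have hφ₁ : ∀ x ∈ σ₁.ker, φ x = 1 := fun x hx => MonoidHom.ext fun y => Subtype.ext (by
    show (x : Δ) * y * (x : Δ)⁻¹ * (y : Δ)⁻¹ = 1
    rw [← Subgroup.mem_center_iff.1 (hc (hk₁ x hx)) (y : Δ)]
    group)
  let ψ : Q₁ →* X₂ →* τ.ker := MonoidHom.liftOfSurjective σ₁ hs₁ ⟨φ, fun x hx => hφ₁ x hx⟩
  have hψ : ∀ x, ψ (σ₁ x) = φ x := fun x =>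
    MonoidHom.liftOfRightInverse_comp_apply σ₁ _ (Function.rightInverse_surjInv _) ⟨φ, fun x hx => hφ₁ x hx⟩ x
  have hψ₂ : ∀ q, σ₂.ker ≤ (ψ q).ker := by
    intro q y hy
    obtain ⟨x, rfl⟩ := hs₁ q
    rw [MonoidHom.mem_ker, hψ]
    refine Subtype.ext ?_
    show (x : Δ) * y * (x : Δ)⁻¹ * (y : Δ)⁻¹ = 1
    rw [Subgroup.mem_center_iff.1 (hc (hk₂ y hy)) (x : Δ)]
    group
  let χ : Q₁ →* Q₂ →* τ.ker :=
    MonoidHom.mk' (fun q => MonoidHom.liftOfSurjective σ₂ hs₂ ⟨ψ q, hψ₂ q⟩) (fun a b => by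
      refine MonoidHom.ext fun r => ?_
      obtain ⟨y, rfl⟩ := hs₂ r
      have e : ∀ q, MonoidHom.liftOfSurjective σ₂ hs₂ ⟨ψ q, hψ₂ q⟩ (σ₂ y) = ψ q y := fun q =>
        MonoidHom.liftOfRightInverse_comp_apply σ₂ _ (Function.rightInverse_surjInv _) ⟨ψ q, hψ₂ q⟩ y
      rw [MonoidHom.mul_apply, e, e, e, map_mul, MonoidHom.mul_apply])
  have hχ : ∀ x y, χ (σ₁ x) (σ₂ y) = c₀ x y := fun x y => by
    show MonoidHom.liftOfSurjective σ₂ hs₂ ⟨ψ (σ₁ x), hψ₂ _⟩ (σ₂ y) = _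
    rw [show MonoidHom.liftOfSurjective σ₂ hs₂ ⟨ψ (σ₁ x), hψ₂ _⟩ (σ₂ y) = ψ (σ₁ x) y from
      MonoidHom.liftOfRightInverse_comp_apply σ₂ _ (Function.rightInverse_surjInv _) ⟨ψ (σ₁ x), hψ₂ _⟩ y, hψ]
    rfl
  let χ' : Abelianization Q₁ →* Abelianization Q₂ →* τ.ker :=
    Abelianization.lift (MonoidHom.mk' (fun q => Abelianization.lift (χ q)) (fun a b => by
      apply Abelianization.hom_ext
      refine MonoidHom.ext fun r => ?_
      simp [map_mul]))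
  let bil : Additive (Abelianization Q₁) →+ Additive (Abelianization Q₂) →+ Additive τ.ker :=
    AddMonoidHom.mk' (fun a => MonoidHom.toAdditive (χ' a.toMul)) (fun a b => by
      ext r
      simp [map_mul])
  let f₃ : AbTensor Q₁ Q₂ →* τ.ker :=
    AddMonoidHom.toMultiplicativeLeft (TensorProduct.liftAddHom bil (fun r a b => by
      simp [map_zsmul]))
  have hf₃ : ∀ x y, (f₃ (tensorOf (σ₁ x) (σ₂ y)) : Δ) = (c₀ x y : Δ) := by
    intro x y
    rw [← hχ x y]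
    simp [f₃, tensorOf, bil, χ']
  refine ⟨f₁, f₂, f₃, ?_⟩
  -- the shape of the derived group
  have hcen : ∀ c, (f₃ c : Δ) ∈ Subgroup.center Δ := fun c => hc (f₃ c).2
  have hcomm12 : ∀ u ∈ ⁅X₁, X₁⁆, ∀ y ∈ X₂, Commute u y := by
    intro u hu y hy
    have hle : ⁅X₁, X₁⁆ ≤ ((MonoidHom.mk' (fun x => c₀ x ⟨y, hy⟩) (fun a b => hc₀l a b _)).ker).map X₁.subtype := by
      rw [Subgroup.commutator_le]
      intro a ha b hb
      refine ⟨⁅(⟨a, ha⟩ : X₁), ⟨b, hb⟩⁆, ?_, by simp⟩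
      rw [SetLike.mem_coe, MonoidHom.mem_ker, map_commutatorElement, commutatorElement_eq_one_iff_mul_comm]
      exact mul_comm _ _
    obtain ⟨v, hv, rfl⟩ := hle hu
    have h1 : (v : Δ) * y * (v : Δ)⁻¹ * y⁻¹ = 1 := congrArg Subtype.val hv
    rw [mul_inv_eq_one, mul_inv_eq_iff_eq_mul] at h1
    exact h1
  have hsub2 : ∀ v ∈ ⁅X₂, X₂⁆, v ∈ X₂ := fun v hv => Subgroup.commutator_le_self X₂ hv
  let S : Subgroup Δ :=
    { carrier := {g | ∃ u ∈ ⁅X₁, X₁⁆, ∃ v ∈ ⁅X₂, X₂⁆, ∃ c, g = u * v * (f₃ c : Δ)}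
      one_mem' := ⟨1, one_mem _, 1, one_mem _, 1, by simp⟩
      mul_mem' := by
        rintro _ _ ⟨u, hu, v, hv, c, rfl⟩ ⟨u', hu', v', hv', c', rfl⟩
        refine ⟨u * u', mul_mem hu hu', v * v', mul_mem hv hv', c * c', ?_⟩
        have h1 : Commute v u' := (hcomm12 u' hu' v (hsub2 v hv)).symm
        have h2 : Commute (f₃ c : Δ) (u' * v') := (Subgroup.mem_center_iff.1 (hcen c) _).symm
        rw [map_mul, Subgroup.coe_mul]
        calc u * v * (f₃ c : Δ) * (u' * v' * (f₃ c' : Δ))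
            = u * v * ((f₃ c : Δ) * (u' * v')) * (f₃ c' : Δ) := by group
          _ = u * (v * u') * v' * ((f₃ c : Δ) * (f₃ c' : Δ)) := by rw [h2.eq]; group
          _ = u * u' * (v * v') * ((f₃ c : Δ) * (f₃ c' : Δ)) := by rw [h1.eq]; group
      inv_mem' := by
        rintro _ ⟨u, hu, v, hv, c, rfl⟩
        refine ⟨u⁻¹, inv_mem hu, v⁻¹, inv_mem hv, c⁻¹, ?_⟩
        have h1 : Commute v⁻¹ u⁻¹ := ((hcomm12 u hu v (hsub2 v hv)).symm).inv_inv
        have h2 : Commute (f₃ c : Δ)⁻¹ (v⁻¹ * u⁻¹) :=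
          (Subgroup.mem_center_iff.1 (Subgroup.inv_mem _ (hcen c)) _).symm
        rw [map_inv, Subgroup.coe_inv, mul_inv_rev, mul_inv_rev, h2.eq, h1.eq] }
  have hX : ∀ g : Δ, ∃ x : X₁, ∃ y : X₂, g = x * y := by
    intro g
    obtain ⟨x, hx⟩ := hs₁ (τ g).1
    have hx2 : (τ x).2 = 1 := x.2
    refine ⟨x, ⟨(x : Δ)⁻¹ * g, ?_⟩, by simp⟩
    have hx' : (τ x).1 = (τ g).1 := hx
    show (τ ((x : Δ)⁻¹ * g)).1 = 1
    simp [hx']
  have hdS : commutator Δ ≤ S := by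
    rw [commutator_def, Subgroup.commutator_le]
    intro g _ h _
    obtain ⟨x, y, rfl⟩ := hX g
    obtain ⟨x', y', rfl⟩ := hX h
    have hzS : ∀ (a : X₁) (b : X₂), (a : Δ) * b * (a : Δ)⁻¹ * (b : Δ)⁻¹ ∈ S := fun a b =>
      ⟨1, one_mem _, 1, one_mem _, tensorOf (σ₁ a) (σ₂ b), by rw [hf₃]; simp [c₀]⟩
    have hA : ⁅(x : Δ), (x' : Δ)⁆ ∈ S :=
      ⟨_, Subgroup.commutator_mem_commutator x.2 x'.2, 1, one_mem _, 1, by simp⟩
    have hB : ⁅(y : Δ), (y' : Δ)⁆ ∈ S :=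
      ⟨1, one_mem _, _, Subgroup.commutator_mem_commutator y.2 y'.2, 1, by simp⟩
    have hz := Subgroup.mem_center_iff.1 (hc (hpair x' y))
    have hz' := Subgroup.mem_center_iff.1 (hc (hpair x y'))
    have hyA : Commute ((x : Δ) * x' * (x : Δ)⁻¹ * (x' : Δ)⁻¹) (y : Δ) :=
      hcomm12 _ (Subgroup.commutator_mem_commutator x.2 x'.2) _ y.2
    have hxB : Commute (x' : Δ) ((y : Δ) * y' * (y : Δ)⁻¹ * (y' : Δ)⁻¹) := by
      have h0 : c₀ x' (y * y' * y⁻¹ * y'⁻¹) = 1 := by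
        have : (φ x') (y * y' * y⁻¹ * y'⁻¹) = 1 := by
          rw [map_mul, map_mul, map_mul, map_inv, map_inv, mul_comm ((φ x') y)]
          simp
        exact this
      have h1 := congrArg Subtype.val h0
      simp only [c₀, OneMemClass.coe_one, Subgroup.coe_mul, Subgroup.coe_inv] at h1
      rw [mul_inv_eq_one, mul_inv_eq_iff_eq_mul] at h1
      exact h1
    set a := (x : Δ) * x' * (x : Δ)⁻¹ * (x' : Δ)⁻¹ with ha
    set b := (y : Δ) * y' * (y : Δ)⁻¹ * (y' : Δ)⁻¹ with hb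
    set z := (x' : Δ) * y * (x' : Δ)⁻¹ * (y : Δ)⁻¹ with hzdef
    set z' := (x : Δ) * y' * (x : Δ)⁻¹ * (y' : Δ)⁻¹ with hz'def
    have e : ⁅(x : Δ) * y, (x' : Δ) * y'⁆ = z⁻¹ * z' * (a * b) := by
      rw [commutatorElement_def]
      have e1 : (y : Δ) * x' = z⁻¹ * (x' * y) := by rw [hzdef]; group
      have e2 : (y : Δ) * y' = b * y' * y := by rw [hb]; group
      have e3 : (x : Δ) * x' = a * x' * x := by rw [ha]; group
      have e4 : (x : Δ) * y' = z' * y' * x := by rw [hz'def]; group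
      have hcz : ∀ g : Δ, g * z⁻¹ = z⁻¹ * g := fun g =>
        ((show Commute g z from hz g).inv_right).eq
      calc (x : Δ) * y * (x' * y') * ((x : Δ) * y)⁻¹ * ((x' : Δ) * y')⁻¹
          = x * (y * x') * y' * (y : Δ)⁻¹ * (x : Δ)⁻¹ * (y' : Δ)⁻¹ * (x' : Δ)⁻¹ := by group
        _ = z⁻¹ * (x * x' * ((y * y') * (y : Δ)⁻¹) * (x : Δ)⁻¹ * (y' : Δ)⁻¹ * (x' : Δ)⁻¹) := by
          rw [e1, ← mul_assoc (x : Δ), hcz (x : Δ)]; group
        _ = z⁻¹ * (a * x' * x * (b * y') * (x : Δ)⁻¹ * (y' : Δ)⁻¹ * (x' : Δ)⁻¹) := by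
          rw [e2, e3]; group
        _ = z⁻¹ * (a * x' * (x * b) * y' * (x : Δ)⁻¹ * (y' : Δ)⁻¹ * (x' : Δ)⁻¹) := by group
        _ = z⁻¹ * (a * x' * b * z' * (x' : Δ)⁻¹) := by
          have hxb : Commute (x : Δ) b := by
            have h0 : c₀ x (y * y' * y⁻¹ * y'⁻¹) = 1 := by
              have : (φ x) (y * y' * y⁻¹ * y'⁻¹) = 1 := by
                rw [map_mul, map_mul, map_mul, map_inv, map_inv, mul_comm ((φ x) y)]
                simp
              exact this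
            have h1 := congrArg Subtype.val h0
            simp only [c₀, OneMemClass.coe_one, Subgroup.coe_mul, Subgroup.coe_inv] at h1
            rw [mul_inv_eq_one, mul_inv_eq_iff_eq_mul] at h1
            exact h1
          rw [hxb.eq, hz'def]; group
        _ = z⁻¹ * (a * (x' * b * (x' : Δ)⁻¹) * z') := by
          rw [mul_assoc (a * (x' : Δ) * b) z', ← hz' (x' : Δ)⁻¹]; group
        _ = z⁻¹ * z' * (a * b) := by
          rw [hxB.eq, mul_inv_cancel_right, hz' (a * b), mul_assoc]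
          simp only [hz'def, mul_assoc]
    rw [e]
    exact S.mul_mem (S.mul_mem (S.inv_mem (hzS x' y)) (hzS x y')) (S.mul_mem hA hB)
  rintro ⟨g, hg⟩
  obtain ⟨u, hu, v, hv, c, hgeq⟩ := hdS (hd hg)
  have hf₃k : τ (f₃ c : Δ) = 1 := (f₃ c).2
  have huv : τ u * τ v = 1 := by
    have h1 : τ g = 1 := hg
    rwa [hgeq, map_mul, map_mul, hf₃k, mul_one] at h1
  have hu1 : u ∈ X₁ := Subgroup.commutator_le_self X₁ hu
  have hv1 : v ∈ X₂ := hsub2 v hv
  have hu0 : σ₁ ⟨u, hu1⟩ = 1 := by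
    have h1 := congrArg Prod.fst huv
    rw [Prod.fst_mul] at h1
    have h2 : (τ v).1 = 1 := hv1
    rwa [h2, mul_one] at h1
  have hv0 : σ₂ ⟨v, hv1⟩ = 1 := by
    have h1 := congrArg Prod.snd huv
    rw [Prod.snd_mul] at h1
    have h2 : (τ u).2 = 1 := hu1
    rwa [h2, one_mul] at h1
  obtain ⟨a, ha⟩ := exists_mult_eq X₁ σ₁ β₁ hc₁ hβ₁ u hu hu1 hu0
  obtain ⟨b, hb⟩ := exists_mult_eq X₂ σ₂ β₂ hc₂ hβ₂ v hv hv1 hv0
  refine ⟨a, b, c, Subtype.ext ?_⟩
  show ((β₁ a : X₁) : Δ) * ((β₂ b : X₂) : Δ) * (f₃ c : Δ) = g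
  rw [ha, hb, hgeq]

end Bound

/-- The multiplier of a direct product. -/
theorem hasSchurMultiplier_prod {Q₁ : Type u} {Q₂ : Type v} [Group Q₁] [Group Q₂] [Finite Q₁] [Finite Q₂]
    {A B : Type w} [CommGroup A] [CommGroup B] (hA : Cfsg.HasSchurMultiplier Q₁ A)
    (hB : Cfsg.HasSchurMultiplier Q₂ B) :
    Cfsg.HasSchurMultiplier (Q₁ × Q₂) (A × B × AbTensor Q₁ Q₂) := by
  obtain ⟨eA⟩ := nonempty_equiv hA
  obtain ⟨eB⟩ := nonempty_equiv hB
  obtain ⟨⟨Γ₁, _, _, σ₁, hσ₁, ⟨e₁⟩⟩, -⟩ := hA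
  obtain ⟨⟨Γ₂, _, _, σ₂, hσ₂, ⟨e₂⟩⟩, -⟩ := hB
  haveI := finite_abTensor Q₁ Q₂
  refine ⟨⟨Glue σ₁ σ₂, inferInstance, Glue.finite, Glue.proj', Glue.isStem hσ₁ hσ₂, ⟨?_⟩⟩, ?_⟩
  · exact
      { toFun := fun x => (e₁ ⟨x.1.a, congrArg Prod.fst x.2⟩, e₂ ⟨x.1.b, congrArg Prod.snd x.2⟩, x.1.t)
        invFun := fun p => ⟨⟨(e₁.symm p.1).1, (e₂.symm p.2.1).1, p.2.2⟩,
          Prod.ext (e₁.symm p.1).2 (e₂.symm p.2.1).2⟩
        left_inv := fun x => Subtype.ext (Glue.ext' (by simp) (by simp) rfl)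
        right_inv := fun p => Prod.ext ((congrArg e₁ (Subtype.ext rfl)).trans (e₁.apply_symm_apply p.1))
          (Prod.ext ((congrArg e₂ (Subtype.ext rfl)).trans (e₂.apply_symm_apply p.2.1)) rfl)
        map_mul' := fun x y => by
          refine Prod.ext ?_ (Prod.ext ?_ ?_)
          · exact (map_mul e₁ ⟨x.1.a, congrArg Prod.fst x.2⟩ ⟨y.1.a, congrArg Prod.fst y.2⟩)
          · exact (map_mul e₂ ⟨x.1.b, congrArg Prod.snd x.2⟩ ⟨y.1.b, congrArg Prod.snd y.2⟩)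
          · show (x.1 * y.1).t = x.1.t * y.1.t
            have hx : σ₁ x.1.a = 1 := congrArg Prod.fst x.2
            rw [Glue.mul_t, hx, tensorOf_one_left, mul_one] }
  · intro Δ _ _ τ hτ
    obtain ⟨f₁, f₂, f₃, hf⟩ := exists_surjection hτ
    letI : CommGroup τ.ker :=
      { (inferInstance : Group τ.ker) with
        mul_comm := fun a b => Subtype.ext (Subgroup.mem_center_iff.1 (hτ.2.1 b.2) a) }
    refine ⟨(f₁.comp eA.symm.toMonoidHom).coprod ((f₂.comp eB.symm.toMonoidHom).coprod f₃), fun x => ?_⟩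
    obtain ⟨a, b, c, habc⟩ := hf x
    refine ⟨(eA a, eB b, c), ?_⟩
    simp [MonoidHom.coprod_apply, ← habc, mul_assoc]

end Cfsg.Agent.SchurCover
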