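import Cfsg.Agent.Lib.SchurCover.Basic

/-!
# Projective representations and the multiplier

* `exists_lift_projective`: projective representations of `Q` lift to `Pres Q`.
* `exists_extension_to_center`: homomorphisms into the scalars extend from subgroups prime to the derived group.
* `exists_rep_detecting`: every nontrivial element of `mult Q` is detected by a projective representation.
-/

set_option autoImplicit false

namespace Cfsg.Agent.SchurCover

universe u

variable {Q : Type u} [Group Q]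

/-- The scalar matrices. -/
abbrev Scal (n : ℕ) : Subgroup (GL (Fin n) ℂ) := Subgroup.center (GL (Fin n) ℂ)

instance scalCommGroup (n : ℕ) : CommGroup (Scal n) :=
  { (inferInstance : Group (Scal n)) with
    mul_comm := fun a b => Subtype.ext (Subgroup.mem_center_iff.1 b.2 a) }

theorem exists_lift_projective {n : ℕ} (γ : Q →* GL (Fin n) ℂ ⧸ Scal n) :
    ∃ ρ : Pres Q →* GL (Fin n) ℂ, (QuotientGroup.mk' (Scal n)).comp ρ = γ.comp (proj Q) := by
  let P : Subgroup (GL (Fin n) ℂ × Q) :=
    ((QuotientGroup.mk' (Scal n)).comp (MonoidHom.fst _ _)).eqLocus (γ.comp (MonoidHom.snd _ _))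
  let σ : P →* Q := (MonoidHom.snd _ _).comp P.subtype
  have hs : Function.Surjective σ := fun q => by
    obtain ⟨g, hg⟩ := QuotientGroup.mk_surjective (γ q)
    exact ⟨⟨(g, q), hg⟩, rfl⟩
  have hc : σ.ker ≤ Subgroup.center P := by
    rintro ⟨⟨g, q⟩, hgq⟩ hx
    have hq : q = 1 := hx
    have hg : QuotientGroup.mk' (Scal n) g = γ q := hgq
    rw [hq, map_one] at hg
    have hgc : g ∈ Scal n := (QuotientGroup.eq_one_iff _).1 hg
    rw [Subgroup.mem_center_iff]
    rintro ⟨⟨g', q'⟩, h'⟩
    refine Subtype.ext (Prod.ext ?_ ?_)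
    · exact Subgroup.mem_center_iff.1 hgc g'
    · show q' * q = q * q'
      rw [hq, one_mul, mul_one]
  obtain ⟨β, hβ⟩ := exists_lift σ hs hc
  refine ⟨((MonoidHom.fst _ _).comp P.subtype).comp β, MonoidHom.ext fun x => ?_⟩
  have h1 : QuotientGroup.mk' (Scal n) ((β x : P) : GL (Fin n) ℂ × Q).1 =
      γ ((β x : P) : GL (Fin n) ℂ × Q).2 := (β x).2
  have h2 : ((β x : P) : GL (Fin n) ℂ × Q).2 = proj Q x := DFunLike.congr_fun hβ x
  rw [h2] at h1
  exact h1

theorem surjective_pow_scal (n : ℕ) {k : ℕ} (hk : k ≠ 0) :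
    Function.Surjective fun a : Scal n => a ^ k := by
  rintro ⟨g, hg⟩
  rw [Scal, Matrix.GeneralLinearGroup.center_eq_range_scalar] at hg
  obtain ⟨a, rfl⟩ := hg
  obtain ⟨z, hz⟩ := IsAlgClosed.exists_pow_nat_eq (a : ℂ) (Nat.pos_of_ne_zero hk)
  have hz0 : z ≠ 0 := by
    rintro rfl
    rw [zero_pow hk] at hz
    exact a.ne_zero hz.symm
  refine ⟨⟨Matrix.GeneralLinearGroup.scalar (Fin n) (Units.mk0 z hz0), ?_⟩, Subtype.ext ?_⟩
  · rw [Scal, Matrix.GeneralLinearGroup.center_eq_range_scalar]
    exact ⟨_, rfl⟩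
  · show Matrix.GeneralLinearGroup.scalar (Fin n) (Units.mk0 z hz0) ^ k = _
    rw [← map_pow]
    congr 1
    exact Units.ext (by simpa using hz)

theorem exists_extension_to_center {n : ℕ} {E : Type*} [Group E] (N : Subgroup E)
    (hN : N ⊓ commutator E = ⊥) (f : N →* Scal n) : ∃ χ : E →* Scal n, ∀ x : N, χ x = f x := by
  letI : DivisibleBy (Additive (Scal n)) ℤ :=
    divisibleByOfSMulRightSurj _ _ (fun {k} hk x => by
      obtain ⟨y, hy⟩ := surjective_pow_scal n (Int.natAbs_ne_zero.2 hk) (Additive.toMul x)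
      have hy' : k.natAbs • Additive.ofMul y = x := congrArg Additive.ofMul hy
      rcases Int.natAbs_eq k with h | h
      · refine ⟨Additive.ofMul y, ?_⟩
        show k • Additive.ofMul y = x
        rw [h, natCast_zsmul, hy']
      · refine ⟨-Additive.ofMul y, ?_⟩
        show k • (-Additive.ofMul y) = x
        rw [h, neg_smul, smul_neg, neg_neg, natCast_zsmul, hy'])
  letI : CommGroup N :=
    { (inferInstance : Group N) with
      mul_comm := fun a b => Subtype.ext (by
        have h1 : (a : E) * (b : E) * (a : E)⁻¹ * (b : E)⁻¹ ∈ N ⊓ commutator E :=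
          ⟨N.mul_mem (N.mul_mem (N.mul_mem a.2 b.2) (N.inv_mem a.2)) (N.inv_mem b.2),
            Subgroup.commutator_mem_commutator (Subgroup.mem_top _) (Subgroup.mem_top _)⟩
        rw [hN, Subgroup.mem_bot, mul_inv_eq_one, mul_inv_eq_iff_eq_mul] at h1
        exact h1) }
  let ι : Additive N →+ Additive (Abelianization E) := MonoidHom.toAdditive (Abelianization.of.comp N.subtype)
  have hι : Function.Injective ι := by
    rw [injective_iff_map_eq_zero]
    intro a ha
    have h1 : Abelianization.of ((Additive.toMul a : N) : E) = 1 := ha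
    rw [← MonoidHom.mem_ker, Abelianization.ker_of] at h1
    have h2 : ((Additive.toMul a : N) : E) ∈ N ⊓ commutator E := ⟨(Additive.toMul a : N).2, h1⟩
    rw [hN, Subgroup.mem_bot] at h2
    exact Subtype.ext h2
  obtain ⟨h, hh⟩ := (Module.Baer.of_divisible (Additive (Scal n))).extension_property_addMonoidHom
    ι hι (MonoidHom.toAdditive f)
  exact ⟨(MonoidHom.toAdditive.symm h).comp Abelianization.of,
    fun x => DFunLike.congr_fun hh (Additive.ofMul x)⟩

/-- Every nontrivial element of the multiplier is moved by some lift of a projective representation. -/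
theorem exists_rep_detecting [Finite Q] {m : Pres Q} (hm : m ∈ mult Q) (hm1 : m ≠ 1) :
    ∃ (n : ℕ) (γ : Q →* GL (Fin n) ℂ ⧸ Scal n) (ρ : Pres Q →* GL (Fin n) ℂ),
      (QuotientGroup.mk' (Scal n)).comp ρ = γ.comp (proj Q) ∧ ρ m ≠ 1 := by
  classical
  obtain ⟨N, hNn, hN, hfin, hinf, -, hstem, -, -⟩ := exists_cover (MonoidHom.id Q) (isStem_id Q)
  set σ := QuotientGroup.lift N (proj Q) hN
  letI : CommGroup σ.ker :=
    { (inferInstance : Group σ.ker) with
      mul_comm := fun a b => Subtype.ext (Subgroup.mem_center_iff.1 (hstem.2.1 b.2) a) }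
  let mb : σ.ker := ⟨(m : Pres Q ⧸ N), MonoidHom.mem_ker.1 (mult_le_ker Q hm)⟩
  have hmb : mb ≠ 1 := by
    intro h
    have h1 : m ∈ N := (QuotientGroup.eq_one_iff _).1 (congrArg Subtype.val h)
    have h2 : m ∈ N ⊓ mult Q := ⟨h1, hm⟩
    rw [hinf] at h2
    exact hm1 (Subgroup.mem_bot.1 h2)
  obtain ⟨ψ, hψ⟩ := CommGroup.exists_apply_ne_one_of_hasEnoughRootsOfUnity σ.ker ℂ hmb
  set s := Function.surjInv hstem.1 with hsdef
  have hs : ∀ q, σ (s q) = q := Function.surjInv_eq hstem.1
  let c : (Pres Q ⧸ N) → Q → σ.ker := fun g q => ⟨(s (σ g * q))⁻¹ * g * s q, by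
    rw [MonoidHom.mem_ker, map_mul, map_mul, map_inv, hs, hs]
    group⟩
  have hc : ∀ g h q, c (g * h) q = c g (σ h * q) * c h q := by
    intro g h q
    apply Subtype.ext
    show (s (σ (g * h) * q))⁻¹ * (g * h) * s q =
      (s (σ g * (σ h * q)))⁻¹ * g * s (σ h * q) * ((s (σ h * q))⁻¹ * h * s q)
    rw [map_mul, mul_assoc (σ g)]
    group
  letI := Fintype.ofFinite Q
  let R : (Pres Q ⧸ N) →* Matrix Q Q ℂ :=
    { toFun := fun g => Matrix.of fun i j => if i = σ g * j then (ψ (c g j) : ℂ) else 0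
      map_one' := by
        ext i j
        have h1 : c 1 j = 1 := Subtype.ext (by simp [c])
        simp [Matrix.one_apply, h1]
      map_mul' := fun g h => by
        ext i j
        simp only [Matrix.of_apply, Matrix.mul_apply]
        rw [Finset.sum_eq_single (σ h * j)]
        · rw [if_pos rfl, map_mul, hc, map_mul, Units.val_mul, mul_assoc (σ g)]
          split_ifs with hij
          · rfl
          · rw [zero_mul]
        · intro k _ hk
          rw [if_neg hk, mul_zero]
        · exact fun h => absurd (Finset.mem_univ _) h }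
  have hker : ∀ z : σ.ker, R z = (ψ z : ℂ) • (1 : Matrix Q Q ℂ) := by
    intro z
    ext i j
    have hz : σ z = 1 := z.2
    have h1 : c z j = z := by
      apply Subtype.ext
      show (s (σ z * j))⁻¹ * z * s j = z
      rw [hz, one_mul, mul_assoc, ← Subgroup.mem_center_iff.1 (hstem.2.1 z.2) (s j), inv_mul_cancel_left]
    show (if i = σ z * j then (ψ (c z j) : ℂ) else 0) = _
    rw [hz, one_mul, h1, Matrix.smul_apply, Matrix.one_apply, smul_eq_mul, mul_ite, mul_one, mul_zero]
  let e : Q ≃ Fin (Fintype.card Q) := Fintype.equivFin Q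
  let ρ₀ : (Pres Q ⧸ N) →* GL (Fin (Fintype.card Q)) ℂ :=
    MonoidHom.toHomUnits ((Matrix.reindexAlgEquiv ℂ ℂ e).toMonoidHom.comp R)
  have hρker : ∀ z : σ.ker, (ρ₀ z : Matrix (Fin (Fintype.card Q)) (Fin (Fintype.card Q)) ℂ) =
      (ψ z : ℂ) • (1 : Matrix (Fin (Fintype.card Q)) (Fin (Fintype.card Q)) ℂ) := by
    intro z
    show (Matrix.reindexAlgEquiv ℂ ℂ e) (R z) = _
    rw [hker, map_smul, map_one]
  have hle : σ.ker ≤ ((QuotientGroup.mk' (Scal (Fintype.card Q))).comp ρ₀).ker := by
    intro x hx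
    rw [MonoidHom.mem_ker, MonoidHom.comp_apply, QuotientGroup.mk'_apply, QuotientGroup.eq_one_iff,
      Subgroup.mem_center_iff]
    intro g
    apply Units.ext
    rw [Units.val_mul, Units.val_mul, hρker ⟨x, hx⟩]
    simp
  refine ⟨Fintype.card Q, MonoidHom.liftOfSurjective σ hstem.1 ⟨_, hle⟩,
    ρ₀.comp (QuotientGroup.mk' N), ?_, fun h => hψ ?_⟩
  · refine MonoidHom.ext fun x => ?_
    exact (MonoidHom.liftOfRightInverse_comp_apply σ _ (Function.rightInverse_surjInv hstem.1) ⟨_, hle⟩
      (x : Pres Q ⧸ N)).symm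
  · have h1 := hρker mb
    have h2 : ρ₀ ((m : Pres Q ⧸ N)) = 1 := h
    rw [show ((mb : σ.ker) : Pres Q ⧸ N) = (m : Pres Q ⧸ N) from rfl, h2] at h1
    have h3 := congrFun (congrFun h1 (e 1)) (e 1)
    simp at h3
    exact Units.ext h3.symm

end Cfsg.Agent.SchurCover
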