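import Cfsg.Agent.Lib.SchurCover.Basic

/-!
# Restriction and corestriction of multipliers

* `exists_res_cor`: for a subgroup `U` of a finite group `Q` there are homomorphisms
  `mult Q →* mult U →* mult Q` whose composite is the power `U.index`.
-/

set_option autoImplicit false
open scoped commutatorElement

namespace Cfsg.Agent.SchurCover

universe u

theorem transfer_eq_prod {F : Type*} [Group F] {H : Subgroup F} [H.FiniteIndex] [Fintype (F ⧸ H)]
    {A : Type*} [CommGroup A] (ψ : H →* A) (R : Subgroup F) [hR : R.Normal] (hRH : R ≤ H) {r : F}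
    (hr : r ∈ R) :
    MonoidHom.transfer ψ r =
      ∏ q : F ⧸ H, ψ ⟨q.out⁻¹ * r * q.out,
        hRH (by simpa using hR.conj_mem r hr q.out⁻¹)⟩ := by
  let T : H.LeftTransversal :=
    ⟨Set.range Quotient.out, Subgroup.isComplement_range_left Quotient.out_eq'⟩
  rw [MonoidHom.transfer_def ψ T r, Subgroup.leftTransversals.diff]
  refine Finset.prod_congr (Finset.ext fun q => by simp) fun q _ => ?_
  refine congrArg ψ (Subtype.ext ?_)
  show (_ : F)⁻¹ * _ = _
  rw [Subgroup.smul_apply_eq_smul_apply_inv_smul,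
    Subgroup.IsComplement.leftQuotientEquiv_apply Quotient.out_eq', Subgroup.IsComplement.leftQuotientEquiv_apply Quotient.out_eq']
  have hfix : r⁻¹ • q = q := by
    conv_lhs => rw [← QuotientGroup.out_eq' q]
    rw [MulAction.Quotient.smul_mk, smul_eq_mul]
    conv_rhs => rw [← QuotientGroup.out_eq' q]
    rw [QuotientGroup.eq]
    have h := hRH (hR.conj_mem r hr q.out⁻¹)
    rw [inv_inv] at h
    simpa [mul_assoc] using h
  rw [hfix, smul_eq_mul]
  exact (mul_assoc _ _ _).symm

variable {Q : Type u} [Group Q]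

theorem mult_map_le {U : Type*} [Group U] {c : Pres U →* Pres Q} (hc : ∀ x, proj U x = 1 → proj Q (c x) = 1) :
    (mult U).map c ≤ mult Q := by
  rintro _ ⟨x, hx, rfl⟩
  refine ⟨hc x hx.1, ?_⟩
  have h1 : c x ∈ (commutator (Pres U)).map c := Subgroup.mem_map_of_mem c hx.2
  rw [commutator_def, Subgroup.map_commutator] at h1
  exact Subgroup.commutator_mono le_top le_top h1

theorem exists_res_cor [Finite Q] (U : Subgroup Q) :
    ∃ (res : mult Q →* mult U) (cor : mult U →* mult Q), ∀ m, cor (res m) = m ^ U.index := by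
  classical
  set π₀ : FreeGroup Q →* Q := FreeGroup.lift (id : Q → Q)
  set H := U.comap π₀ with hH
  have hπ₀ : Function.Surjective π₀ := fun q => ⟨FreeGroup.of q, FreeGroup.lift_apply_of⟩
  have hidx : H.index = U.index := Subgroup.index_comap_of_surjective U hπ₀
  haveI : H.FiniteIndex := ⟨by rw [hidx]; exact Subgroup.index_ne_zero_of_finite⟩
  letI : Fintype (FreeGroup Q ⧸ H) := H.fintypeQuotientOfFiniteIndex
  have hRH : rel Q ≤ H := fun r hr => by
    show π₀ r ∈ U
    rw [show π₀ r = 1 from hr]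
    exact U.one_mem
  -- the projection of the subgroup onto `U`, and its lift
  let πH : H →* U := (π₀.comp H.subtype).codRestrict U fun x => x.2
  haveI : IsFreeGroup H := subgroupIsFreeOfIsFree H
  let lam : H →* Pres U :=
    IsFreeGroup.lift fun g => Function.surjInv (proj_surjective U) (πH (IsFreeGroup.of g))
  have hlam : ∀ h, proj U (lam h) = πH h := by
    refine DFunLike.congr_fun (IsFreeGroup.ext_hom (f := (proj U).comp lam) (g := πH) fun g => ?_)
    simp [lam, Function.surjInv_eq]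
  -- corestriction
  let σU : (U.comap (proj Q)) →* U := ((proj Q).comp (U.comap (proj Q)).subtype).codRestrict U fun x => x.2
  obtain ⟨β, hβ⟩ := exists_lift σU
    (fun v => by
      obtain ⟨x, hx⟩ := proj_surjective Q (v : Q)
      exact ⟨⟨x, by show proj Q x ∈ U; rw [hx]; exact v.2⟩, Subtype.ext hx⟩)
    (fun x hx => Subgroup.mem_center_iff.2 fun g => Subtype.ext (Subgroup.mem_center_iff.1
      (ker_le_center Q (congrArg Subtype.val hx)) g))
  let c : Pres U →* Pres Q := (U.comap (proj Q)).subtype.comp β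
  have hc : ∀ x, proj Q (c x) = (proj U x : Q) := fun x =>
    congrArg Subtype.val (DFunLike.congr_fun hβ x)
  have hcle := mult_map_le (Q := Q) (c := c) fun x hx => by rw [hc, hx]; rfl
  let cor : mult U →* mult Q :=
    (c.comp (mult U).subtype).codRestrict _ fun x => hcle ⟨x, x.2, rfl⟩
  -- the commutative groups of values
  letI : CommGroup (proj U).ker :=
    { (inferInstance : Group (proj U).ker) with
      mul_comm := fun a b => Subtype.ext (Subgroup.mem_center_iff.1 (ker_le_center U b.2) a) }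
  letI : CommGroup (proj Q).ker :=
    { (inferInstance : Group (proj Q).ker) with
      mul_comm := fun a b => Subtype.ext (Subgroup.mem_center_iff.1 (ker_le_center Q b.2) a) }
  have hconj : ∀ (x : FreeGroup Q), ∀ r ∈ rel Q, x⁻¹ * r * x ∈ rel Q := fun x r hr => by
    simpa using (relNormal Q).conj_mem r hr x⁻¹
  let lamR : rel Q →* (proj U).ker := (lam.comp (Subgroup.inclusion hRH)).codRestrict _ fun r => by
    rw [MonoidHom.mem_ker, MonoidHom.comp_apply, hlam]
    exact Subtype.ext r.2
  let T : rel Q →* (proj U).ker :=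
    MonoidHom.mk' (fun r => ∏ q : FreeGroup Q ⧸ H, lamR ⟨q.out⁻¹ * r * q.out, hconj _ r r.2⟩) (by
      intro a b
      rw [← Finset.prod_mul_distrib]
      refine Finset.prod_congr rfl fun q _ => ?_
      rw [← map_mul]
      congr 1
      exact Subtype.ext (by simp [mul_assoc]))
  -- invariance under conjugation
  have hinv : ∀ (f : FreeGroup Q) (r : rel Q), T ⟨f * r * f⁻¹, (relNormal Q).conj_mem r r.2 f⟩ = T r := by
    intro f r
    refine Fintype.prod_equiv (MulAction.toPerm f⁻¹) _ _ fun q => ?_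
    set p := (MulAction.toPerm f⁻¹) q with hp
    have hh : p.out⁻¹ * (f⁻¹ * q.out) ∈ H := by
      rw [← QuotientGroup.eq, QuotientGroup.out_eq', hp]
      conv_lhs => rw [MulAction.toPerm_apply, ← QuotientGroup.out_eq' q, MulAction.Quotient.smul_mk]
      rfl
    have he : (⟨q.out⁻¹ * (f * r * f⁻¹) * q.out, hRH (hconj _ _ ((relNormal Q).conj_mem r r.2 f))⟩ : H) =
        ⟨_, hh⟩⁻¹ * ⟨p.out⁻¹ * r * p.out, hRH (hconj _ r r.2)⟩ * ⟨_, hh⟩ :=
      Subtype.ext (by simp [mul_assoc])
    apply Subtype.ext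
    show lam ⟨_, _⟩ = lam ⟨_, _⟩
    rw [he, map_mul, map_mul, map_inv]
    have hz : lam ⟨p.out⁻¹ * r * p.out, hRH (hconj _ r r.2)⟩ ∈ Subgroup.center (Pres U) :=
      ker_le_center U (lamR ⟨p.out⁻¹ * r * p.out, hconj _ r r.2⟩).2
    rw [mul_assoc, ← Subgroup.mem_center_iff.1 hz, inv_mul_cancel_left]
  -- restriction
  let R' : Subgroup (FreeGroup Q) := rel Q ⊓ commutator (FreeGroup Q)
  have hR' : R' ≤ rel Q := inf_le_left
  have hTcomm : ∀ r : R', (T (Subgroup.inclusion hR' r) : Pres U) ∈ mult U := by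
    intro r
    refine ⟨(T (Subgroup.inclusion hR' r)).2, ?_⟩
    rw [← Abelianization.ker_of]
    show Abelianization.of (T (Subgroup.inclusion hR' r) : Pres U) = 1
    have h1 := Abelianization.commutator_subset_ker
      (MonoidHom.transfer ((Abelianization.of (G := Pres U)).comp lam)) r.2.2
    rw [MonoidHom.mem_ker, transfer_eq_prod _ (rel Q) hRH (hR' r.2)] at h1
    show ((Abelianization.of (G := Pres U)).comp (proj U).ker.subtype) (T (Subgroup.inclusion hR' r)) = 1
    show ((Abelianization.of (G := Pres U)).comp (proj U).ker.subtype) (∏ q, _) = 1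
    rw [map_prod]
    exact h1
  let res₀ : R' →* mult U :=
    (((proj U).ker.subtype.comp T).comp (Subgroup.inclusion hR')).codRestrict (mult U) hTcomm
  let m₀ : R' →* mult Q := ((QuotientGroup.mk' (relComm Q)).comp R'.subtype).codRestrict (mult Q) fun r =>
    ⟨r.2.1, by
      have h1 := Subgroup.mem_map_of_mem (QuotientGroup.mk' (relComm Q)) r.2.2
      rw [commutator_def, Subgroup.map_commutator, ← MonoidHom.range_eq_map,
        MonoidHom.range_eq_top_of_surjective _ (QuotientGroup.mk'_surjective _)] at h1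
      exact h1⟩
  have hm₀ : Function.Surjective m₀ := by
    rintro ⟨x, hx1, hx2⟩
    have h1 : x ∈ (commutator (FreeGroup Q)).map (QuotientGroup.mk' (relComm Q)) := by
      rw [commutator_def, Subgroup.map_commutator, ← MonoidHom.range_eq_map,
        MonoidHom.range_eq_top_of_surjective _ (QuotientGroup.mk'_surjective _)]
      exact hx2
    obtain ⟨f, hf, rfl⟩ := h1
    exact ⟨⟨f, hx1, hf⟩, rfl⟩
  have hker : m₀.ker ≤ res₀.ker := by
    intro r hr
    have h1 : (r : FreeGroup Q) ∈ relComm Q := (QuotientGroup.eq_one_iff _).1 (congrArg Subtype.val hr)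
    have h2 : relComm Q ≤ T.ker.map (rel Q).subtype := by
      rw [relComm, Subgroup.commutator_le]
      intro a ha f _
      refine ⟨⟨a, ha⟩ * ⟨f * a⁻¹ * f⁻¹, (relNormal Q).conj_mem _ ((rel Q).inv_mem ha) f⟩, ?_, ?_⟩
      · rw [SetLike.mem_coe, MonoidHom.mem_ker, map_mul]
        have h3 := hinv f (⟨a, ha⟩ : rel Q)⁻¹
        rw [map_inv] at h3
        rw [show T ⟨f * a⁻¹ * f⁻¹, (relNormal Q).conj_mem _ ((rel Q).inv_mem ha) f⟩ = (T ⟨a, ha⟩)⁻¹ from h3,
          mul_inv_cancel]
      · simp [commutatorElement_def, mul_assoc]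
    obtain ⟨s, hs, hsr⟩ := h2 h1
    have hs' : s = Subgroup.inclusion hR' r := Subtype.ext hsr
    apply Subtype.ext
    show ((T (Subgroup.inclusion hR' r) : (proj U).ker) : Pres U) = 1
    rw [← hs', MonoidHom.mem_ker.1 hs]
    rfl
  refine ⟨MonoidHom.liftOfSurjective m₀ hm₀ ⟨res₀, hker⟩, cor, fun m => ?_⟩
  obtain ⟨r, rfl⟩ := hm₀ m
  rw [show MonoidHom.liftOfSurjective m₀ hm₀ ⟨res₀, hker⟩ (m₀ r) = res₀ r from
    MonoidHom.liftOfRightInverse_comp_apply m₀ _ (Function.rightInverse_surjInv _) ⟨res₀, hker⟩ r]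
  -- the difference of the two lifts on `H` takes central values
  let cK : (proj U).ker →* (proj Q).ker := (c.comp (proj U).ker.subtype).codRestrict _ fun x => by
    rw [MonoidHom.mem_ker, MonoidHom.comp_apply, hc]
    exact congrArg Subtype.val x.2
  have hdmem : ∀ h : H, c (lam h) * ((h : FreeGroup Q) : Pres Q)⁻¹ ∈ (proj Q).ker := by
    intro h
    rw [MonoidHom.mem_ker, map_mul, map_inv, hc, hlam]
    exact mul_inv_cancel _
  let d : H →* (proj Q).ker := MonoidHom.mk' (fun h => ⟨_, hdmem h⟩) (by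
    intro a b
    apply Subtype.ext
    show c (lam (a * b)) * (((a * b : H) : FreeGroup Q) : Pres Q)⁻¹ = _
    rw [map_mul, map_mul, Subgroup.coe_mul, QuotientGroup.mk_mul, mul_inv_rev]
    have hcb := Subgroup.mem_center_iff.1 (ker_le_center Q (hdmem b)) ((((a : H) : FreeGroup Q) : Pres Q)⁻¹)
    calc c (lam a) * c (lam b) * ((((b : H) : FreeGroup Q) : Pres Q)⁻¹ * (((a : H) : FreeGroup Q) : Pres Q)⁻¹)
        = c (lam a) * (c (lam b) * (((b : H) : FreeGroup Q) : Pres Q)⁻¹ * (((a : H) : FreeGroup Q) : Pres Q)⁻¹) := by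
          simp [mul_assoc]
      _ = c (lam a) * ((((a : H) : FreeGroup Q) : Pres Q)⁻¹ * (c (lam b) * (((b : H) : FreeGroup Q) : Pres Q)⁻¹)) := by
          rw [hcb]
      _ = _ := by rw [← mul_assoc]; rfl)
  have h1 := Abelianization.commutator_subset_ker (MonoidHom.transfer d) r.2.2
  rw [MonoidHom.mem_ker, transfer_eq_prod d (rel Q) hRH (hR' r.2)] at h1
  let mr : (proj Q).ker := ⟨((r : FreeGroup Q) : Pres Q), r.2.1⟩
  have h2 : ∀ q : FreeGroup Q ⧸ H,
      d ⟨q.out⁻¹ * r * q.out, hRH (hconj _ r (hR' r.2))⟩ =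
        cK (lamR ⟨q.out⁻¹ * r * q.out, hconj _ r (hR' r.2)⟩) * mr⁻¹ := by
    intro q
    apply Subtype.ext
    show c (lam _) * (((q.out⁻¹ * r * q.out : FreeGroup Q) : Pres Q))⁻¹ = c (lam _) * ((r : FreeGroup Q) : Pres Q)⁻¹
    congr 2
    rw [QuotientGroup.mk_mul, QuotientGroup.mk_mul, mul_assoc,
      ← Subgroup.mem_center_iff.1 (ker_le_center Q mr.2), QuotientGroup.mk_inv, inv_mul_cancel_left]
  rw [Finset.prod_congr rfl fun q _ => h2 q, Finset.prod_mul_distrib, Finset.prod_const, inv_pow,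
    mul_inv_eq_one] at h1
  apply Subtype.ext
  show c ((T (Subgroup.inclusion hR' r) : (proj U).ker) : Pres U) = _
  show ((cK (T (Subgroup.inclusion hR' r)) : (proj Q).ker) : Pres Q) = _
  rw [show cK (T (Subgroup.inclusion hR' r)) = mr ^ Finset.univ.card from (map_prod cK _ _).trans h1]
  rw [Finset.card_univ, ← Nat.card_eq_fintype_card, ← Subgroup.index_eq_card, hidx]
  rfl

end Cfsg.Agent.SchurCover
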